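import Cfsg.Agent.Lib.SpeTrace.Budget

/-!
# Relative traces

The orbit sums of `T / Q` on the fixed points of `Q`, their shifts of a filtration, and the trace
from a subgroup `M` to a group `G` normalizing `Q`.
-/

set_option autoImplicit false

namespace Cfsg.Agent.SpeTrace

open MulAction

variable {X : Type*} [Group X] [Finite X] {Y : Type*} [AddCommGroup Y] [DistribMulAction X Y]

/-- The orbit sum over `T / Q`. -/
noncomputable def relSum (Q T : Subgroup X) (y : Y) : Y :=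
  haveI := Fintype.ofFinite (T ⧸ Q.subgroupOf T)
  ∑ q : T ⧸ Q.subgroupOf T, ((q.out : T) : X) • y

omit [Finite X] in
theorem smul_eq_of_fixed {Q : Subgroup X} {y : Y} (hy : ∀ q ∈ Q, q • y = y) {a b : X}
    (h : a⁻¹ * b ∈ Q) : b • y = a • y := by
  conv_lhs => rw [← mul_inv_cancel_left a b, mul_smul, hy _ h]

omit [Finite X] in
theorem out_inv_mul_mem (Q T : Subgroup X) (u : T) :
    (((QuotientGroup.mk u : T ⧸ Q.subgroupOf T).out : T) : X)⁻¹ * (u : X) ∈ Q := by
  have h : ((QuotientGroup.mk u : T ⧸ Q.subgroupOf T).out)⁻¹ * u ∈ Q.subgroupOf T := by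
    rw [← QuotientGroup.eq, QuotientGroup.out_eq']
  simpa [Subgroup.mem_subgroupOf] using h

omit [Finite X] in
theorem out_smul (Q T : Subgroup X) (u : T) {y : Y} (hy : ∀ q ∈ Q, q • y = y) :
    (((QuotientGroup.mk u : T ⧸ Q.subgroupOf T).out : T) : X) • y = (u : X) • y :=
  (smul_eq_of_fixed hy (out_inv_mul_mem Q T u)).symm

theorem relSum_eq (Q T : Subgroup X) [Fintype (T ⧸ Q.subgroupOf T)] (y : Y) :
    relSum Q T y = ∑ q : T ⧸ Q.subgroupOf T, ((q.out : T) : X) • y := by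
  rw [relSum]
  exact Finset.sum_congr (Finset.ext fun _ => by simp) fun _ _ => rfl

theorem relSum_self (Q : Subgroup X) {y : Y} (hy : ∀ q ∈ Q, q • y = y) : relSum Q Q y = y := by
  haveI : Subsingleton (Q ⧸ Q.subgroupOf Q) := by
    rw [Subgroup.subgroupOf_self]; exact QuotientGroup.subsingleton_quotient_top
  haveI := Fintype.ofFinite (Q ⧸ Q.subgroupOf Q)
  rw [relSum_eq, Fintype.sum_subsingleton _ ((1 : Q) : Q ⧸ Q.subgroupOf Q), out_smul Q Q 1 hy]
  simp

/-- `T / Q` shifts the filtration `F` by `c` on the fixed points of `Q`. -/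
def RelShifts (Q T : Subgroup X) (F : ℕ → AddSubgroup Y) (c : ℕ) : Prop :=
  ∀ i y, (∀ q ∈ Q, q • y = y) → y ∈ F i → relSum Q T y ∈ F (i + c)

theorem relShifts_self (Q : Subgroup X) (F : ℕ → AddSubgroup Y) : RelShifts Q Q F 0 :=
  fun i y hy hi => by rw [relSum_self Q hy]; simpa using hi

/-- One step: `T` is the union of the cosets `t ^ k T'`, `k < p`. -/
theorem relShifts_step {p : ℕ} [Fact p.Prime] (hY : ∀ y : Y, p • y = 0) {Q T' T : Subgroup X}
    {F : ℕ → AddSubgroup Y} {c s : ℕ} {t : X} (hQ : Q ≤ T') (hle : T' ≤ T) (ht : t ∈ T)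
    (hidx : T'.relIndex T = p) (hinj : ∀ k, 0 < k → k < p → t ^ k ∉ T')
    (hT' : RelShifts Q T' F c) (hts : ∀ i y, y ∈ F i → t • y - y ∈ F (i + s)) :
    RelShifts Q T F (c + (p - 1) * s) := by
  classical
  haveI := Fintype.ofFinite (T ⧸ Q.subgroupOf T)
  haveI := Fintype.ofFinite (T' ⧸ Q.subgroupOf T')
  intro i y hfix hy
  have hinj2 : ∀ j k : ℕ, j ≤ k → k < p → ∀ u v : T',
      (t ^ j * (u : X))⁻¹ * (t ^ k * v) ∈ Q → j = k ∧ (u : X)⁻¹ * v ∈ Q := by
    intro j k hjk hk u v huv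
    obtain ⟨d, rfl⟩ := Nat.exists_eq_add_of_le hjk
    rcases Nat.eq_zero_or_pos d with rfl | hd
    · exact ⟨rfl, by simpa [mul_assoc] using huv⟩
    · refine absurd ?_ (hinj d hd (by omega))
      have h := T'.mul_mem (T'.mul_mem u.2 (hQ huv)) (T'.inv_mem v.2)
      simpa [pow_add, mul_assoc] using h
  let e : Fin p × (T' ⧸ Q.subgroupOf T') → T ⧸ Q.subgroupOf T := fun w =>
    QuotientGroup.mk ⟨t ^ (w.1 : ℕ) * ((w.2.out : T') : X), T.mul_mem (T.pow_mem ht _) (hle w.2.out.2)⟩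
  have hei : Function.Injective e := by
    rintro ⟨j, u⟩ ⟨k, v⟩ h
    have h1 := QuotientGroup.eq.1 h
    have h2 := QuotientGroup.eq.1 h.symm
    rw [Subgroup.mem_subgroupOf] at h1 h2
    simp only [Subgroup.coe_mul, Subgroup.coe_inv] at h1 h2
    have huv : (j : ℕ) = k ∧ ((u.out : T') : X)⁻¹ * (v.out : T') ∈ Q := by
      rcases le_total (j : ℕ) k with hl | hl
      · exact hinj2 _ _ hl k.2 _ _ h1
      · obtain ⟨h3, h4⟩ := hinj2 _ _ hl j.2 _ _ h2
        exact ⟨h3.symm, by simpa [mul_inv_rev] using Q.inv_mem h4⟩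
    refine Prod.ext (Fin.ext huv.1) ?_
    show u = v
    rw [← QuotientGroup.out_eq' u, ← QuotientGroup.out_eq' v, QuotientGroup.eq,
      Subgroup.mem_subgroupOf]
    simpa using huv.2
  have heb : Function.Bijective e := (Fintype.bijective_iff_injective_and_card e).2 ⟨hei, by
    rw [Fintype.card_prod, Fintype.card_fin, ← Nat.card_eq_fintype_card, ← Nat.card_eq_fintype_card,
      ← Subgroup.index_eq_card, ← Subgroup.index_eq_card, ← hidx]
    show T'.relIndex T * Q.relIndex T' = Q.relIndex T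
    rw [mul_comm, Subgroup.relIndex_mul_relIndex Q T' T hQ hle]⟩
  have hp0 : (p : AddMonoid.End Y) = 0 := by
    refine AddMonoidHom.ext fun z => ?_
    show (p : AddMonoid.End Y) z = 0
    exact (AddMonoid.End.natCast_apply p z).trans (hY z)
  have happ : ∀ (A : Finset (Fin p)) (f : Fin p → AddMonoid.End Y) (z : Y),
      (∑ k ∈ A, f k : AddMonoid.End Y) z = ∑ k ∈ A, f k z := fun A f z => by
    induction A using Finset.induction_on with
    | empty => simp
    | insert a A ha ih => rw [Finset.sum_insert ha, Finset.sum_insert ha, ← ih]; rfl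
  have hsum : relSum Q T y = ((smulEnd t - 1) ^ (p - 1) : AddMonoid.End Y) (relSum Q T' y) := by
    rw [← geom_sum_eq_sub_one_pow hp0, relSum_eq, relSum_eq,
      ← Fintype.sum_bijective e heb (fun w => (((e w).out : T) : X) • y)
        (fun q => ((q.out : T) : X) • y) (fun _ => rfl),
      Fintype.sum_prod_type, ← Fin.sum_univ_eq_sum_range, happ]
    refine Finset.sum_congr rfl fun k _ => ?_
    rw [smulEnd_pow, Finset.smul_sum]
    refine Finset.sum_congr rfl fun u _ => ?_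
    show ((_ : T) : X) • y = _
    rw [out_smul Q T _ hfix, mul_smul]
  rw [hsum]
  have key : ∀ k (z : Y) (m : ℕ), z ∈ F m → ((smulEnd t - 1) ^ k : AddMonoid.End Y) z ∈ F (m + k * s) := by
    intro k
    induction k with
    | zero => intro z m hz; simpa using hz
    | succ k ih =>
      intro z m hz
      rw [pow_succ', Nat.succ_mul, ← Nat.add_assoc]
      exact hts _ _ (ih z m hz)
  rw [← Nat.add_assoc]
  exact key _ _ _ (hT' i y hfix hy)

/-- A chain from `Q` shifts by `p - 1` times the sum of the shifts of its steps. -/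
theorem relShifts_chain {p : ℕ} [Fact p.Prime] (hY : ∀ y : Y, p • y = 0) {F : ℕ → AddSubgroup Y}
    (C : ℕ → Subgroup X) (t : ℕ → X) (s : ℕ → ℕ) : ∀ n : ℕ,
    (∀ k < n, C k ≤ C (k + 1) ∧ t k ∈ C (k + 1) ∧ (C k).relIndex (C (k + 1)) = p ∧
      (∀ j, 0 < j → j < p → t k ^ j ∉ C k) ∧ ∀ i y, y ∈ F i → t k • y - y ∈ F (i + s k)) →
    C 0 ≤ C n ∧ RelShifts (C 0) (C n) F ((p - 1) * ∑ k ∈ Finset.range n, s k) := by
  intro n
  induction n with
  | zero => exact fun _ => ⟨le_rfl, by simpa using relShifts_self (C 0) F⟩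
  | succ n ih =>
    intro h
    obtain ⟨hle, hsh⟩ := ih fun k hk => h k (hk.trans n.lt_succ_self)
    obtain ⟨h1, h2, h3, h4, h5⟩ := h n n.lt_succ_self
    refine ⟨hle.trans h1, ?_⟩
    rw [Finset.sum_range_succ, Nat.mul_add]
    exact relShifts_step hY hle h1 h2 h3 h4 hsh h5

/-- A shift past the end of the filtration kills the relative orbit sums. -/
theorem relSum_eq_zero {Q T : Subgroup X} {F : ℕ → AddSubgroup Y} {c : ℕ}
    (hc : RelShifts Q T F c) (h0 : F 0 = ⊤) (hN : F c = ⊥) (y : Y) (hy : ∀ q ∈ Q, q • y = y) :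
    relSum Q T y = 0 := by
  have := hc 0 y hy (by rw [h0]; exact AddSubgroup.mem_top y)
  rwa [Nat.zero_add, hN, AddSubgroup.mem_bot] at this

/-- **Relative trace.** `G` normalizes `Q ≤ T ≤ M ≤ G` and `T` meets the conjugates of `M` off
`M` inside `Q`: a fixed point of `M` agrees with a fixed point of `G` modulo the orbit sums. -/
theorem rel_trace (G M T Q : Subgroup X) (hQn : ∀ g ∈ G, ∀ q ∈ Q, g⁻¹ * q * g ∈ Q) (hQT : Q ≤ T)
    (hTM : T ≤ M) (hMG : M ≤ G) (hTI : ∀ g ∈ G, g ∉ M → ∀ t ∈ T, g⁻¹ * t * g ∈ M → t ∈ Q)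
    (y : Y) (hy : ∀ m ∈ M, m • y = y) (H' : AddSubgroup Y)
    (hsum : ∀ z : Y, (∀ q ∈ Q, q • z = z) → relSum Q T z ∈ H') :
    ∃ y' : Y, (∀ g ∈ G, g • y' = y') ∧ y' - y ∈ H' := by
  classical
  haveI := Fintype.ofFinite (G ⧸ M.subgroupOf G)
  haveI := Fintype.ofFinite (T ⧸ Q.subgroupOf T)
  let f : G ⧸ M.subgroupOf G → Y := fun r => ((r.out : G) : X) • y
  have hfu : ∀ u : G, f (QuotientGroup.mk u) = (u : X) • y := fun u => out_smul M G u hy
  have hequiv : ∀ (a : G) (r : G ⧸ M.subgroupOf G), f (a • r) = (a : X) • f r := by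
    intro a r
    obtain ⟨u, rfl⟩ := QuotientGroup.mk_surjective r
    rw [MulAction.Quotient.smul_coe, hfu, hfu, smul_eq_mul, Subgroup.coe_mul, mul_smul]
  refine ⟨∑ r, f r, fun g hg => ?_, ?_⟩
  · rw [Finset.smul_sum]
    exact Fintype.sum_bijective _ (MulAction.bijective (⟨g, hg⟩ : G)) _ _ fun r => (hequiv ⟨g, hg⟩ r).symm
  let base : G ⧸ M.subgroupOf G := QuotientGroup.mk 1
  have hb : f base = y := by rw [hfu]; simp
  rw [← Finset.add_sum_erase _ _ (Finset.mem_univ base), hb, add_sub_cancel_left]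
  let TG : Subgroup G := T.subgroupOf G
  have hfixbase : ∀ a : TG, a • base = base := by
    intro a
    show (a : G) • base = base
    rw [MulAction.Quotient.smul_coe, QuotientGroup.eq, Subgroup.mem_subgroupOf]
    simpa using M.inv_mem (hTM a.2)
  rw [← Finset.sum_fiberwise (Finset.univ.erase base)
    (fun r => (Quotient.mk'' r : Quotient (orbitRel TG (G ⧸ M.subgroupOf G)))) f]
  refine AddSubgroup.sum_mem _ fun o _ => ?_
  induction o using Quotient.inductionOn' with
  | h r =>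
    obtain ⟨u, rfl⟩ := QuotientGroup.mk_surjective r
    by_cases hu : (QuotientGroup.mk u : G ⧸ M.subgroupOf G) = base
    · refine AddSubgroup.sum_mem _ fun r' hr' => absurd ?_ (Finset.mem_erase.1 (Finset.mem_filter.1 hr').1).1
      obtain ⟨a, ha⟩ := Quotient.eq''.1 (Finset.mem_filter.1 hr').2
      rw [← ha, hu]
      exact hfixbase a
    · have huM : (u : X) ∉ M := fun hm => hu (by
        rw [QuotientGroup.eq, Subgroup.mem_subgroupOf]; simpa using M.inv_mem hm)
      have hz : ∀ q ∈ Q, q • ((u : X) • y) = (u : X) • y := by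
        intro q hq
        rw [show q • (u : X) • y = (u : X) • ((u : X)⁻¹ * q * (u : X)) • y by
          rw [← mul_smul, ← mul_smul]; group, hy _ (hTM (hQT (hQn _ u.2 q hq)))]
      let act : T ⧸ Q.subgroupOf T → G ⧸ M.subgroupOf G := fun q =>
        (⟨⟨((q.out : T) : X), hMG (hTM q.out.2)⟩, q.out.2⟩ : TG) • (QuotientGroup.mk u)
      refine (congrArg (· ∈ H') ?_).mp (hsum _ hz)
      rw [relSum_eq]
      refine Finset.sum_bij (fun q _ => act q) ?_ ?_ ?_ ?_
      · intro q _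
        refine Finset.mem_filter.2 ⟨Finset.mem_erase.2 ⟨fun e => hu ?_, Finset.mem_univ _⟩,
          Quotient.sound' ⟨_, rfl⟩⟩
        have e' := congrArg (fun r => ((⟨⟨((q.out : T) : X), hMG (hTM q.out.2)⟩, q.out.2⟩ : TG)⁻¹) • r) e
        simp only [act, inv_smul_smul] at e'
        rw [e']
        exact hfixbase _
      · intro a _ b _ e
        have h1 := QuotientGroup.eq.1 e
        rw [Subgroup.mem_subgroupOf] at h1
        have h2 := hTI _ u.2 huM (((a.out : T) : X)⁻¹ * (b.out : T))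
          (T.mul_mem (T.inv_mem a.out.2) b.out.2) (by simpa [mul_assoc, mul_inv_rev] using h1)
        rw [← QuotientGroup.out_eq' a, ← QuotientGroup.out_eq' b, QuotientGroup.eq,
          Subgroup.mem_subgroupOf]
        simpa using h2
      · intro r' hr'
        obtain ⟨a, ha⟩ := Quotient.eq''.1 (Finset.mem_filter.1 hr').2
        refine ⟨QuotientGroup.mk ⟨((a : G) : X), a.2⟩, Finset.mem_univ _, ?_⟩
        rw [← ha]
        show _ • _ = _ • _
        have hq := out_inv_mul_mem Q T ⟨((a : G) : X), a.2⟩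
        have hm := hTM (hQT (hQn _ u.2 _ hq))
        show (QuotientGroup.mk _ : G ⧸ M.subgroupOf G) = QuotientGroup.mk _
        rw [QuotientGroup.eq, Subgroup.mem_subgroupOf]
        simpa [mul_assoc, mul_inv_rev] using hm
      · intro q _
        show _ = f (((⟨⟨((q.out : T) : X), hMG (hTM q.out.2)⟩, q.out.2⟩ : TG) : G) • (QuotientGroup.mk u))
        rw [hequiv, hfu]

/-- Vanishing orbit sums: the fixed point itself is fixed by `G`. -/
theorem rel_fixed (G M T Q : Subgroup X) (hQn : ∀ g ∈ G, ∀ q ∈ Q, g⁻¹ * q * g ∈ Q) (hQT : Q ≤ T)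
    (hTM : T ≤ M) (hMG : M ≤ G) (hTI : ∀ g ∈ G, g ∉ M → ∀ t ∈ T, g⁻¹ * t * g ∈ M → t ∈ Q)
    (y : Y) (hy : ∀ m ∈ M, m • y = y)
    (hsum : ∀ z : Y, (∀ q ∈ Q, q • z = z) → relSum Q T z = 0) (g : X) (hg : g ∈ G) : g • y = y := by
  obtain ⟨y', h1, h2⟩ := rel_trace G M T Q hQn hQT hTM hMG hTI y hy ⊥
    fun z hz => by rw [AddSubgroup.mem_bot]; exact hsum z hz
  rw [AddSubgroup.mem_bot, sub_eq_zero] at h2
  rw [← h2]
  exact h1 g hg

end Cfsg.Agent.SpeTrace
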