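import Cfsg.Agent.Lib.SpeTrace.Rel

/-!
# Forms additive in every slot, filtered by degree

A form takes arguments in modules `V j`, each with a filtration; an element moving every
filtration `s` steps down lowers the degree by `s`.
-/

set_option autoImplicit false

namespace Cfsg.Agent.SpeTrace

variable {ι : Type*}

/-- A `ZMod p`-valued function additive in every slot. -/
structure Form (p : ℕ) (V : ι → Type*) [∀ j, AddCommGroup (V j)] where
  /-- The values. -/
  toFun : (∀ j, V j) → ZMod p
  map_update_add' : ∀ [DecidableEq ι] (v : ∀ j, V j) (j : ι) (a b : V j),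
    toFun (Function.update v j (a + b)) = toFun (Function.update v j a) + toFun (Function.update v j b)

namespace Form

variable {p : ℕ} {V : ι → Type*} [∀ j, AddCommGroup (V j)]

instance : FunLike (Form p V) (∀ j, V j) (ZMod p) where
  coe := toFun
  coe_injective f g h := by cases f; cases g; congr

@[ext] theorem ext {f g : Form p V} (h : ∀ v, f v = g v) : f = g := DFunLike.ext f g h

theorem map_update_add [DecidableEq ι] (f : Form p V) (v : ∀ j, V j) (j : ι) (a b : V j) :
    f (Function.update v j (a + b)) = f (Function.update v j a) + f (Function.update v j b) :=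
  f.map_update_add' v j a b

theorem map_eq_zero (f : Form p V) {v : ∀ j, V j} {j : ι} (h : v j = 0) : f v = 0 := by
  classical
  have := f.map_update_add v j 0 0
  rw [add_zero, Function.update_eq_self_iff.2 h.symm] at this
  exact left_eq_add.1 this

instance : Zero (Form p V) := ⟨⟨fun _ => 0, fun _ _ _ _ => (add_zero _).symm⟩⟩
instance : Add (Form p V) := ⟨fun f g => ⟨fun v => f v + g v, fun v j a b => by
  rw [f.map_update_add, g.map_update_add]; abel⟩⟩
instance : Neg (Form p V) := ⟨fun f => ⟨fun v => - f v, fun v j a b => by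
  rw [f.map_update_add]; abel⟩⟩
instance : Sub (Form p V) := ⟨fun f g => ⟨fun v => f v - g v, fun v j a b => by
  rw [f.map_update_add, g.map_update_add]; abel⟩⟩
instance : SMul ℕ (Form p V) := ⟨fun n f => ⟨fun v => n • f v, fun v j a b => by
  rw [f.map_update_add, nsmul_add]⟩⟩
instance : SMul ℤ (Form p V) := ⟨fun n f => ⟨fun v => n • f v, fun v j a b => by
  rw [f.map_update_add, zsmul_add]⟩⟩

@[simp] theorem zero_apply (v : ∀ j, V j) : (0 : Form p V) v = 0 := rfl
@[simp] theorem add_apply (f g : Form p V) (v : ∀ j, V j) : (f + g) v = f v + g v := rfl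
@[simp] theorem neg_apply (f : Form p V) (v : ∀ j, V j) : (-f) v = - f v := rfl
@[simp] theorem sub_apply (f g : Form p V) (v : ∀ j, V j) : (f - g) v = f v - g v := rfl
@[simp] theorem nsmul_apply (n : ℕ) (f : Form p V) (v : ∀ j, V j) : (n • f) v = n • f v := rfl

instance : AddCommGroup (Form p V) :=
  DFunLike.coe_injective.addCommGroup _ rfl (fun _ _ => rfl) (fun _ => rfl) (fun _ _ => rfl)
    (fun _ _ => rfl) (fun _ _ => rfl)

theorem tors (f : Form p V) : p • f = 0 := by
  ext v
  rw [nsmul_apply, nsmul_eq_mul, ZMod.natCast_self, zero_mul, zero_apply]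

variable {X : Type*} [Group X] [∀ j, DistribMulAction X (V j)]

instance : SMul X (Form p V) := ⟨fun g f => ⟨fun v => f fun j => g⁻¹ • v j, fun v j a b => by
  have h : ∀ c : V j, (fun l => g⁻¹ • Function.update v j c l) =
      Function.update (fun l => g⁻¹ • v l) j (g⁻¹ • c) := fun c => by
    funext l
    exact Function.apply_update (fun l (w : V l) => g⁻¹ • w) v j c l
  show f _ = f _ + f _
  rw [h, h, h, smul_add, f.map_update_add]⟩⟩

@[simp] theorem smul_apply (g : X) (f : Form p V) (v : ∀ j, V j) :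
    (g • f) v = f fun j => g⁻¹ • v j := rfl

instance : DistribMulAction X (Form p V) where
  one_smul f := by ext v; simp
  mul_smul g h f := by ext v; simp [mul_smul]
  smul_zero g := by ext v; simp
  smul_add g f f' := by ext v; simp

/-- Forms of degree at most `H - n` in the filtrations `W`. -/
def Deg [Fintype ι] (W : ∀ j, ℕ → AddSubgroup (V j)) (H n : ℕ) : AddSubgroup (Form p V) where
  carrier := {f | ∀ (a : ι → ℕ) (v : ∀ j, V j), (∀ j, v j ∈ W j (a j)) → H < (∑ j, a j) + n → f v = 0}
  zero_mem' := fun _ _ _ _ => rfl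
  add_mem' := fun hf hg a v hv h => by simp [hf a v hv h, hg a v hv h]
  neg_mem' := fun hf a v hv h => by simp [hf a v hv h]

theorem mem_Deg [Fintype ι] {W : ∀ j, ℕ → AddSubgroup (V j)} {H n : ℕ} {f : Form p V} :
    f ∈ Deg W H n ↔ ∀ (a : ι → ℕ) (v : ∀ j, V j), (∀ j, v j ∈ W j (a j)) →
      H < (∑ j, a j) + n → f v = 0 := Iff.rfl

theorem deg_anti [Fintype ι] (W : ∀ j, ℕ → AddSubgroup (V j)) (H : ℕ) :
    Antitone fun n => (Deg W H n : AddSubgroup (Form p V)) :=
  fun n n' h f hf a v hv hlt => hf a v hv (by omega)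

theorem deg_zero [Fintype ι] {W : ∀ j, ℕ → AddSubgroup (V j)} {d : ι → ℕ} {H : ℕ}
    (hW : ∀ j l, d j ≤ l → W j l = ⊥) (hH : ∑ j, (d j - 1) ≤ H) :
    (Deg W H 0 : AddSubgroup (Form p V)) = ⊤ := by
  refine eq_top_iff.2 fun f _ a v hv hlt => ?_
  obtain ⟨j, -, hj⟩ : ∃ j ∈ (Finset.univ : Finset ι), d j - 1 < a j :=
    Finset.exists_lt_of_sum_lt (by omega)
  refine f.map_eq_zero (j := j) ?_
  have := hv j
  rwa [hW j _ (by omega), AddSubgroup.mem_bot] at this

theorem deg_eq_bot [Fintype ι] {W : ∀ j, ℕ → AddSubgroup (V j)} {H n : ℕ}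
    (hW : ∀ j, W j 0 = ⊤) (hn : H < n) : (Deg W H n : AddSubgroup (Form p V)) = ⊥ := by
  refine eq_bot_iff.2 fun f hf => ?_
  rw [AddSubgroup.mem_bot]
  ext v
  exact hf 0 v (fun j => by rw [Pi.zero_apply, hW]; exact AddSubgroup.mem_top _) (by simp; omega)

end Form

section Moves

variable {X : Type*} [Group X] [Finite X] {W' : Type*} [AddCommGroup W'] [DistribMulAction X W']

/-- `t` moves every `F l` into `F (l + s)`. -/
def Moves (t : X) (F : ℕ → AddSubgroup W') (s : ℕ) : Prop :=
  ∀ l, ∀ w ∈ F l, t • w - w ∈ F (l + s)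

omit [Finite X] in
theorem Moves.mul {F : ℕ → AddSubgroup W'} (hF : Antitone F) {s : ℕ} {t u : X} (ht : Moves t F s)
    (hu : Moves u F s) : Moves (t * u) F s := fun l w hw => by
  have h1 := hu l w hw
  have h2 := hF (Nat.le_add_right (l + s) s) (ht _ _ h1)
  have e : (t * u) • w - w = (t • (u • w - w) - (u • w - w)) + (u • w - w) + (t • w - w) := by
    rw [mul_smul, smul_sub]; abel
  rw [e]
  exact add_mem (add_mem h2 h1) (ht l w hw)

theorem Moves.inv {F : ℕ → AddSubgroup W'} (hF : Antitone F) {s : ℕ} {t : X} (ht : Moves t F s) :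
    Moves t⁻¹ F s := by
  have hpow : ∀ k : ℕ, Moves (t ^ k) F s := fun k => by
    induction k with
    | zero => intro l w _; simp
    | succ k ih => rw [pow_succ]; exact ih.mul hF ht
  obtain ⟨k, hk⟩ : ∃ k : ℕ, t ^ k = t⁻¹ := ⟨orderOf t - 1, eq_inv_of_mul_eq_one_left (by
    rw [← pow_succ, Nat.sub_add_cancel (orderOf_pos t), pow_orderOf_eq_one])⟩
  exact hk ▸ hpow k

end Moves

namespace Form

variable {X : Type*} [Group X] [Finite X] {p : ℕ} {V : ι → Type*} [∀ j, AddCommGroup (V j)]
  [∀ j, DistribMulAction X (V j)] [Fintype ι] {W : ∀ j, ℕ → AddSubgroup (V j)}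

/-- An element moving all slots `s` steps down lowers the degree by `s`. -/
theorem smul_sub_mem (hA : ∀ j, Antitone (W j)) {t : X} {s : ℕ} (ht : ∀ j, Moves t (W j) s)
    {H n : ℕ} {f : Form p V} (hf : f ∈ Deg W H n) : t • f - f ∈ Deg W H (n + s) := by
  classical
  intro a v hv hlt
  have hi : ∀ j, t⁻¹ • v j - v j ∈ W j (a j + s) := fun j => (ht j).inv (hA j) _ _ (hv j)
  let w : ∀ j, V j := fun j => t⁻¹ • v j
  have key : ∀ A : Finset ι, f (A.piecewise w v) = f v := by
    intro A
    induction A using Finset.induction_on with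
    | empty => simp
    | insert j A hj ih =>
      rw [Finset.piecewise_insert, show w j = v j + (t⁻¹ • v j - v j) by simp [w],
        f.map_update_add]
      have h1 : Function.update (A.piecewise w v) j (v j) = A.piecewise w v := by
        rw [Function.update_eq_self_iff, Finset.piecewise_eq_of_notMem _ _ _ hj]
      rw [h1, ih, add_eq_left]
      refine hf (fun l => if l = j then a l + s else a l) _ ?_ ?_
      · intro l
        by_cases hl : l = j
        · subst hl; simpa using hi l
        · rw [Function.update_of_ne hl, if_neg hl]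
          by_cases hA' : l ∈ A
          · rw [Finset.piecewise_eq_of_mem _ _ _ hA']
            have := add_mem ((hA l) (Nat.le_add_right (a l) s) (hi l)) (hv l)
            simpa [w] using this
          · rw [Finset.piecewise_eq_of_notMem _ _ _ hA']; exact hv l
      · have hsum : (∑ l, if l = j then a l + s else a l) = (∑ l, a l) + s := by
          rw [← Finset.add_sum_erase _ _ (Finset.mem_univ j),
            ← Finset.add_sum_erase _ a (Finset.mem_univ j), if_pos rfl]
          rw [Finset.sum_congr rfl (g := fun l => a l) fun l hl => if_neg (Finset.mem_erase.1 hl).1]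
          ring
        omega
  have := key Finset.univ
  simp only [Finset.piecewise_univ] at this
  simp [w] at this ⊢
  rw [this, sub_self]

/-- If the slot ranges sum to less than `p - 1` times the shifts of a chain from `Q` to `T`, the
orbit sums of `T / Q` on forms vanish. -/
theorem relSum_eq_zero [Fact p.Prime] {d : ι → ℕ} (hW : ∀ j l, d j ≤ l → W j l = ⊥)
    (hW0 : ∀ j, W j 0 = ⊤) (hA : ∀ j, Antitone (W j)) (C : ℕ → Subgroup X) (t : ℕ → X) (s : ℕ → ℕ)
    (n : ℕ) (hC : ∀ k < n, C k ≤ C (k + 1) ∧ t k ∈ C (k + 1) ∧ (C k).relIndex (C (k + 1)) = p ∧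
      (∀ j, 0 < j → j < p → t k ^ j ∉ C k) ∧ ∀ j, Moves (t k) (W j) (s k))
    (hlt : ∑ j, (d j - 1) < (p - 1) * ∑ k ∈ Finset.range n, s k)
    (y : Form p V) (hy : ∀ q ∈ C 0, q • y = y) : relSum (C 0) (C n) y = 0 := by
  have h := (relShifts_chain (Y := Form p V) Form.tors
    (F := fun m => Deg W (∑ j, (d j - 1)) m) C t s n fun k hk => by
      obtain ⟨h1, h2, h3, h4, h5⟩ := hC k hk
      exact ⟨h1, h2, h3, h4, fun i z hz => smul_sub_mem hA h5 hz⟩).2
  exact SpeTrace.relSum_eq_zero h (deg_zero hW le_rfl) (deg_eq_bot hW0 hlt) y hy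

end Form

end Cfsg.Agent.SpeTrace
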