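import Cfsg.Agent.Lib.SpeTrace.Forms

/-!
# Exterior powers as slots

For a flag `W` with layers of order `p` the exterior power `⋀^m` has the induced flag, with range
`m * (d - m)`.
-/

set_option autoImplicit false

namespace Cfsg.Agent.SpeTrace.Wedge

variable {V : Type*} [AddCommGroup V] {m : ℕ}

/-- The exterior power over the integers. -/
abbrev Pow (m : ℕ) (V : Type*) [AddCommGroup V] := ↥(⋀[ℤ]^m V)

/-- The wedge of `m` vectors. -/
noncomputable abbrev wedge (v : Fin m → V) : Pow m V := exteriorPower.ιMulti ℤ m v

variable {X : Type*} [Group X] [DistribMulAction X V]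

/-- The action of an element as a linear map. -/
def linMap (g : X) : V →ₗ[ℤ] V := (DistribSMul.toAddMonoidHom V g).toIntLinearMap

noncomputable instance : DistribMulAction X (Pow m V) where
  smul g w := exteriorPower.map m (linMap g) w
  one_smul w := by
    show exteriorPower.map m (linMap (1 : X)) w = w
    rw [show linMap (1 : X) = (LinearMap.id : V →ₗ[ℤ] V) from LinearMap.ext fun v => one_smul X v,
      exteriorPower.map_id]
    rfl
  mul_smul g h w := by
    show exteriorPower.map m (linMap (g * h)) w = exteriorPower.map m (linMap g) (exteriorPower.map m (linMap h) w)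
    rw [show linMap (g * h) = (linMap g).comp (linMap (V := V) h) from LinearMap.ext fun v => mul_smul g h v,
      exteriorPower.map_comp]
    rfl
  smul_zero g := map_zero (exteriorPower.map m (linMap g))
  smul_add g := map_add (exteriorPower.map m (linMap g))

theorem smul_wedge (g : X) (v : Fin m → V) : g • wedge v = wedge fun k => g • v k :=
  exteriorPower.map_apply_ιMulti (linMap g) v

theorem wedge_update_add [DecidableEq (Fin m)] (v : Fin m → V) (j : Fin m) (a b : V) :
    wedge (Function.update v j (a + b)) = wedge (Function.update v j a) + wedge (Function.update v j b) :=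
  (exteriorPower.ιMulti ℤ m).map_update_add v j a b

/-- The least total level of `m` independent vectors. -/
def lo (m : ℕ) : ℕ := ∑ k ∈ Finset.range m, k

/-- The induced flag, with level `0` everything. -/
def flag (W : ℕ → AddSubgroup V) (m l : ℕ) : AddSubgroup (Pow m V) :=
  AddSubgroup.closure {w | ∃ (v : Fin m → V) (a : Fin m → ℕ),
    (∀ k, v k ∈ W (a k)) ∧ l + lo m ≤ ∑ k, a k ∧ w = wedge v}

theorem wedge_mem {W : ℕ → AddSubgroup V} {l : ℕ} {v : Fin m → V} {a : Fin m → ℕ}
    (hv : ∀ k, v k ∈ W (a k)) (hl : l + lo m ≤ ∑ k, a k) : wedge v ∈ flag W m l :=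
  AddSubgroup.subset_closure ⟨v, a, hv, hl, rfl⟩

theorem flag_anti (W : ℕ → AddSubgroup V) (m : ℕ) : Antitone (flag W m) := fun l l' h =>
  AddSubgroup.closure_mono fun _ ⟨v, a, h1, h2, h3⟩ => ⟨v, a, h1, by omega, h3⟩

theorem moves [Finite X] {W : ℕ → AddSubgroup V} (hA : Antitone W) {t : X} {s : ℕ} (ht : Moves t W s) :
    Moves t (flag W m) s := by
  classical
  intro l w hw
  induction hw using AddSubgroup.closure_induction with
  | zero => simp
  | add x y _ _ hx hy => rw [smul_add, add_sub_add_comm]; exact add_mem hx hy
  | neg x _ hx => rw [smul_neg, ← neg_sub', ]; exact neg_mem hx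
  | mem x hx =>
    obtain ⟨v, a, hv, hl, rfl⟩ := hx
    let u : Fin m → V := fun k => t • v k
    have key : ∀ A : Finset (Fin m), wedge (A.piecewise u v) - wedge v ∈ flag W m (l + s) := by
      intro A
      induction A using Finset.induction_on with
      | empty => simp
      | insert j A hj ih =>
        rw [Finset.piecewise_insert, show u j = v j + (t • v j - v j) by simp [u], wedge_update_add]
        have h1 : Function.update (A.piecewise u v) j (v j) = A.piecewise u v := by
          rw [Function.update_eq_self_iff, Finset.piecewise_eq_of_notMem _ _ _ hj]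
        rw [h1, add_sub_right_comm]
        refine add_mem ih (wedge_mem (a := fun k => if k = j then a k + s else a k) ?_ ?_)
        · intro k
          by_cases hk : k = j
          · subst hk; simpa using ht _ _ (hv k)
          · rw [Function.update_of_ne hk, if_neg hk]
            by_cases hA' : k ∈ A
            · rw [Finset.piecewise_eq_of_mem _ _ _ hA']
              have := add_mem (hA (Nat.le_add_right (a k) s) (ht _ _ (hv k))) (hv k)
              simpa [u] using this
            · rw [Finset.piecewise_eq_of_notMem _ _ _ hA']; exact hv k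
        · have hsum : (∑ k, if k = j then a k + s else a k) = (∑ k, a k) + s := by
            rw [← Finset.add_sum_erase _ _ (Finset.mem_univ j),
              ← Finset.add_sum_erase _ a (Finset.mem_univ j), if_pos rfl]
            rw [Finset.sum_congr rfl (g := fun k => a k) fun k hk => if_neg (Finset.mem_erase.1 hk).1]
            ring
          omega
    have := key Finset.univ
    rw [Finset.piecewise_univ] at this
    rwa [smul_wedge]

theorem lo_le_sum : ∀ {m : ℕ} (s : Finset ℕ), s.card = m → lo m ≤ ∑ x ∈ s, x := by
  intro m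
  induction m with
  | zero => intro s _; simp [lo]
  | succ m ih =>
    intro s hs
    have hne : s.Nonempty := Finset.card_pos.1 (by omega)
    have hmem := s.max'_mem hne
    have hmax : m ≤ s.max' hne := by
      have h1 : s ⊆ Finset.range (s.max' hne + 1) := fun x hx =>
        Finset.mem_range.2 (Nat.lt_succ_of_le (s.le_max' x hx))
      have := Finset.card_le_card h1
      rw [Finset.card_range] at this
      omega
    have := ih (s.erase (s.max' hne)) (by rw [Finset.card_erase_of_mem hmem]; omega)
    rw [← Finset.add_sum_erase _ _ hmem]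
    unfold lo at this ⊢
    rw [Finset.sum_range_succ]
    omega

theorem lo_le_sum_injective {k : Fin m → ℕ} (hk : Function.Injective k) : lo m ≤ ∑ j, k j := by
  have := lo_le_sum (m := m) (Finset.univ.image k) (by rw [Finset.card_image_of_injective _ hk]; simp)
  rwa [Finset.sum_image fun x _ y _ h => hk h] at this

theorem two_mul_lo : ∀ m : ℕ, 2 * lo m + m = m * m
  | 0 => rfl
  | m + 1 => by
    have := two_mul_lo m
    simp only [lo, Finset.sum_range_succ] at this ⊢
    linarith

/-- Injective levels below `d` have total at most `lo m + m * (d - m)`. -/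
theorem sum_le {d : ℕ} {k : Fin m → ℕ} (hk : Function.Injective k) (hd : ∀ j, k j < d) :
    ∑ j, k j ≤ lo m + m * (d - m) := by
  have hmd : m ≤ d := by
    have := Finset.card_le_card (s := Finset.univ.image k) (t := Finset.range d) fun x hx => by
      obtain ⟨j, -, rfl⟩ := Finset.mem_image.1 hx
      exact Finset.mem_range.2 (hd j)
    rw [Finset.card_image_of_injective _ hk, Finset.card_range] at this
    simpa using this
  have h2 := lo_le_sum_injective (k := fun j => d - 1 - k j) fun x y h => hk (by
    have := hd x; have := hd y; simp only at h; omega)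
  have h3 : ∑ j, (d - 1 - k j) + ∑ j, k j = m * (d - 1) := by
    rw [← Finset.sum_add_distrib, Finset.sum_congr rfl (g := fun _ => d - 1) fun j _ => by
      have := hd j; omega]
    simp
  have h4 := two_mul_lo m
  obtain ⟨c, rfl⟩ := Nat.exists_eq_add_of_le hmd
  rw [Nat.add_sub_cancel_left]
  rcases Nat.eq_zero_or_pos m with rfl | hm
  · simp
  · obtain ⟨m, rfl⟩ := Nat.exists_eq_add_one.2 hm
    rw [show m + 1 + c - 1 = m + c by omega] at h3
    simp only [show m + 1 + c - 1 = m + c by omega] at h2
    linarith

/-- Every vector of `W a` is a combination of chosen generators of the layers below. -/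
theorem exists_gens {p d : ℕ} [Fact p.Prime] {W : ℕ → AddSubgroup V} (hA : Antitone W)
    (hWd : ∀ l, d ≤ l → W l = ⊥) (hidx : ∀ l, l < d → (W (l + 1)).relIndex (W l) = p) :
    ∃ e : ℕ → V, (∀ l, e l ∈ W l) ∧ ∀ a, W a ≤ AddSubgroup.closure (e '' {l | a ≤ l ∧ l < d}) := by
  classical
  have h : ∀ l, ∃ e, e ∈ W l ∧ (l < d → e ∉ W (l + 1)) := by
    intro l
    by_cases hl : l < d
    · by_contra hcon
      push Not at hcon
      have : W l ≤ W (l + 1) := fun e he => (hcon e he).2
      rw [← AddSubgroup.relIndex_eq_one, hidx l hl] at this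
      exact (Fact.out : p.Prime).ne_one this
    · exact ⟨0, zero_mem _, fun h => absurd h hl⟩
  choose e he using h
  refine ⟨e, fun l => (he l).1, ?_⟩
  suffices ∀ n a, d ≤ a + n → W a ≤ AddSubgroup.closure (e '' {l | a ≤ l ∧ l < d}) from
    fun a => this d a (by omega)
  intro n
  induction n with
  | zero => intro a ha; rw [hWd a (by omega)]; exact bot_le
  | succ n ih =>
    intro a ha
    by_cases had : a < d
    swap
    · rw [hWd a (by omega)]; exact bot_le
    have hle : AddSubgroup.closure (e '' {l | a + 1 ≤ l ∧ l < d}) ≤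
        AddSubgroup.closure (e '' {l | a ≤ l ∧ l < d}) :=
      AddSubgroup.closure_mono (Set.image_mono fun l hl => ⟨Nat.le_of_succ_le hl.1, hl.2⟩)
    have h1 := (ih (a + 1) (by omega)).trans hle
    set H := W (a + 1) ⊔ AddSubgroup.zmultiples (e a) with hH
    have hHa : H ≤ W a :=
      sup_le (hA (Nat.le_succ a)) (AddSubgroup.zmultiples_le_of_mem (he a).1)
    have hmul := AddSubgroup.relIndex_mul_relIndex (W (a + 1)) H (W a) le_sup_left hHa
    rw [hidx a had] at hmul
    have h2 : H.relIndex (W a) = 1 := by
      rcases (Nat.dvd_prime Fact.out).1 ⟨_, hmul.symm⟩ with h3 | h3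
      · exfalso
        rw [AddSubgroup.relIndex_eq_one] at h3
        exact (he a).2 had (h3 ((le_sup_right : _ ≤ H) (AddSubgroup.mem_zmultiples _)))
      · rw [h3] at hmul
        exact Nat.eq_of_mul_eq_mul_left (Fact.out : p.Prime).pos (by rw [hmul, mul_one])
    refine le_trans (AddSubgroup.relIndex_eq_one.1 h2) (sup_le h1 ?_)
    exact AddSubgroup.zmultiples_le_of_mem
      (AddSubgroup.subset_closure ⟨a, ⟨le_rfl, had⟩, rfl⟩)

/-- Wedges of given levels lie in the span of wedges of generators at injective levels. -/
theorem wedge_mem_gens {e : ℕ → V} {d : ℕ} {a : Fin m → ℕ} {v : Fin m → V}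
    (hv : ∀ j, v j ∈ AddSubgroup.closure (e '' {l | a j ≤ l ∧ l < d})) :
    wedge v ∈ AddSubgroup.closure {w | ∃ k : Fin m → ℕ, Function.Injective k ∧
      (∀ j, a j ≤ k j ∧ k j < d) ∧ w = wedge fun j => e (k j)} := by
  classical
  set K := AddSubgroup.closure {w | ∃ k : Fin m → ℕ, Function.Injective k ∧
      (∀ j, a j ≤ k j ∧ k j < d) ∧ w = wedge fun j => e (k j)} with hK
  suffices ∀ A : Finset (Fin m), ∀ v : Fin m → V,
      (∀ j ∈ A, v j ∈ AddSubgroup.closure (e '' {l | a j ≤ l ∧ l < d})) →
      (∀ j ∉ A, v j ∈ e '' {l | a j ≤ l ∧ l < d}) → wedge v ∈ K from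
    this Finset.univ v (fun j _ => hv j) fun j hj => absurd (Finset.mem_univ j) hj
  intro A
  induction A using Finset.induction_on with
  | empty =>
    intro v _ h2
    have h2' : ∀ j, ∃ l, (a j ≤ l ∧ l < d) ∧ e l = v j := fun j => h2 j (Finset.notMem_empty j)
    choose k hk hkv using h2'
    have hvk : v = fun j => e (k j) := funext fun j => (hkv j).symm
    subst hvk
    by_cases hinj : Function.Injective k
    · exact AddSubgroup.subset_closure ⟨k, hinj, hk, rfl⟩
    · simp only [Function.Injective, not_forall] at hinj
      obtain ⟨i, j, hij, hne⟩ := hinj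
      rw [show wedge (fun j => e (k j)) = 0 from
        (exteriorPower.ιMulti ℤ m).map_eq_zero_of_eq _ (by simp [hij]) hne]
      exact zero_mem _
  | insert j A hj ih =>
    intro v h1 h2
    have hmem := h1 j (Finset.mem_insert_self j A)
    have main : ∀ x ∈ AddSubgroup.closure (e '' {l | a j ≤ l ∧ l < d}),
        wedge (Function.update v j x) ∈ K := by
      intro x hx
      induction hx using AddSubgroup.closure_induction with
      | zero =>
        rw [show wedge (Function.update v j (0 : V)) = 0 from
          (exteriorPower.ιMulti ℤ m).map_coord_zero j (Function.update_self j 0 v)]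
        exact zero_mem _
      | add x y _ _ hx hy => rw [wedge_update_add]; exact add_mem hx hy
      | neg x _ hx =>
        rw [show wedge (Function.update v j (-x)) = - wedge (Function.update v j x) from
          (exteriorPower.ιMulti ℤ m).map_update_neg v j x]
        exact neg_mem hx
      | mem x hx =>
        refine ih _ (fun l hl => ?_) fun l hl => ?_
        · rw [Function.update_of_ne (fun h => hj (by rwa [h] at hl))]
          exact h1 l (Finset.mem_insert_of_mem hl)
        · by_cases hlj : l = j
          · subst hlj; rwa [Function.update_self]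
          · rw [Function.update_of_ne hlj]
            exact h2 l (by simp [hlj, hl])
    simpa using main (v j) hmem

variable {p d : ℕ} [Fact p.Prime] {W : ℕ → AddSubgroup V}

theorem flag_zero (hA : Antitone W) (hW0 : W 0 = ⊤) (hWd : ∀ l, d ≤ l → W l = ⊥)
    (hidx : ∀ l, l < d → (W (l + 1)).relIndex (W l) = p) : flag W m 0 = ⊤ := by
  obtain ⟨e, he, hgen⟩ := exists_gens hA hWd hidx
  refine eq_top_iff.2 fun w _ => ?_
  have hw : w ∈ Submodule.span ℤ (Set.range (exteriorPower.ιMulti ℤ m (M := V))) := by
    rw [exteriorPower.ιMulti_span]; exact Submodule.mem_top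
  rw [← Submodule.mem_toAddSubgroup, Submodule.span_int_eq_addSubgroupClosure] at hw
  refine (AddSubgroup.closure_le _).2 ?_ hw
  rintro _ ⟨v, rfl⟩
  refine (AddSubgroup.closure_le _).2 ?_ (wedge_mem_gens (a := fun _ => 0)
    fun j => hgen 0 (by rw [hW0]; exact AddSubgroup.mem_top (v j)))
  rintro _ ⟨k, hk, -, rfl⟩
  exact wedge_mem (a := k) (fun j => he _) (by have := lo_le_sum_injective hk; omega)

/-- The range of the flag is `m * (d - m)`. -/
theorem flag_eq_bot (hA : Antitone W) (hWd : ∀ l, d ≤ l → W l = ⊥)
    (hidx : ∀ l, l < d → (W (l + 1)).relIndex (W l) = p) {l : ℕ} (hl : m * (d - m) + 1 ≤ l) :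
    flag W m l = ⊥ := by
  obtain ⟨e, -, hgen⟩ := exists_gens hA hWd hidx
  refine le_bot_iff.1 ((AddSubgroup.closure_le _).2 ?_)
  rintro _ ⟨v, a, hv, hla, rfl⟩
  refine (AddSubgroup.closure_le (⊥ : AddSubgroup (Pow m V))).2 ?_
    (wedge_mem_gens fun j => hgen _ (hv j))
  rintro _ ⟨k, hk, hkd, rfl⟩
  have h1 := sum_le hk fun j => (hkd j).2
  have h2 : ∑ j, a j ≤ ∑ j, k j := Finset.sum_le_sum fun j _ => (hkd j).1
  omega

end Cfsg.Agent.SpeTrace.Wedge
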