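import Mathlib

/-!
# Relative trace over a strongly embedded subgroup

If every `T`-orbit sum vanishes and `T` meets the conjugates `x M x⁻¹`, `x ∉ M`, trivially,
then every fixed point of `M` is fixed by the whole group.
-/

set_option autoImplicit false

namespace Cfsg.Agent.SpeTrace

open scoped Pointwise
open MulAction

variable {X : Type*} [Group X] [Finite X] {Y : Type*} [AddCommGroup Y] [DistribMulAction X Y]

/-- Fixed points of `M` are fixed by `X` when `T ≤ M` has vanishing orbit sums. -/
theorem fixed_of_trace (M T : Subgroup X) [Fintype T] (hTM : T ≤ M)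
    (hTI : ∀ x : X, x ∉ M → ∀ t ∈ T, x⁻¹ * t * x ∈ M → t = 1)
    (hsum : ∀ y : Y, ∑ t : T, (t : X) • y = 0) (y : Y) (hy : ∀ m ∈ M, m • y = y) (g : X) :
    g • y = y := by
  classical
  haveI := Fintype.ofFinite (X ⧸ M)
  -- the value of `y` on a coset
  let f : X ⧸ M → Y := fun q => Quotient.liftOn' q (fun x => x • y) fun a b hab => by
    rw [QuotientGroup.leftRel_apply] at hab
    have := hy _ hab
    calc a • y = a • ((a⁻¹ * b) • y) := by rw [this]
      _ = b • y := by rw [← mul_smul, mul_inv_cancel_left]
  have hf : ∀ x : X, f (x : X ⧸ M) = x • y := fun x => rfl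
  have hequiv : ∀ (a : X) (q : X ⧸ M), f (a • q) = a • f q := by
    intro a q
    obtain ⟨x, rfl⟩ := QuotientGroup.mk_surjective q
    rw [MulAction.Quotient.smul_coe, hf, hf, smul_eq_mul, mul_smul]
  set S := ∑ q : X ⧸ M, f q with hS
  have hSfix : g • S = S := by
    rw [hS, Finset.smul_sum]
    simp_rw [← hequiv]
    exact Fintype.sum_bijective _ (MulAction.bijective g) _ _ fun q => rfl
  -- all orbits of `T` other than the fixed coset cancel
  have hrest : ∑ q ∈ Finset.univ.erase ((1 : X) : X ⧸ M), f q = 0 := by
    let base : X ⧸ M := ((1 : X) : X ⧸ M)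
    rw [← Finset.sum_fiberwise (Finset.univ.erase base) (fun q => (Quotient.mk'' q : Quotient (orbitRel T (X ⧸ M)))) f]
    refine Finset.sum_eq_zero fun o _ => ?_
    induction o using Quotient.inductionOn' with
    | h q =>
      by_cases hq : q = base
      · refine Finset.sum_eq_zero fun r hr => absurd ?_ (Finset.mem_erase.1 (Finset.mem_filter.1 hr).1).1
        obtain ⟨t, ht⟩ := Quotient.eq''.1 (Finset.mem_filter.1 hr).2
        rw [← ht, hq]
        show ((t : X) • base) = base
        rw [MulAction.Quotient.smul_coe, QuotientGroup.eq]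
        simpa using M.inv_mem (hTM t.2)
      · obtain ⟨x, rfl⟩ := QuotientGroup.mk_surjective q
        have hxM : x ∉ M := fun hx => hq (by rw [QuotientGroup.eq]; simpa using M.inv_mem hx)
        have hinj : Function.Injective fun t : T => (t : X) • (x : X ⧸ M) := by
          intro s t hst
          simp only [MulAction.Quotient.smul_coe, smul_eq_mul, QuotientGroup.eq] at hst
          have := hTI x hxM ((s : X)⁻¹ * t) (T.mul_mem (T.inv_mem s.2) t.2)
            (by simpa [mul_assoc] using hst)
          exact Subtype.ext (inv_mul_eq_one.1 this)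
        refine Eq.trans ?_ (hsum (x • y))
        refine (Finset.sum_bij (M := Y) (s := (Finset.univ : Finset T)) (f := fun t => (t : X) • x • y) (fun t _ => (t : X) • (x : X ⧸ M)) ?_ ?_ ?_ ?_).symm
        · intro t _
          refine Finset.mem_filter.2 ⟨Finset.mem_erase.2 ⟨fun e => hq ?_, Finset.mem_univ _⟩,
            Quotient.sound' ⟨t, rfl⟩⟩
          have e' := congrArg (fun q : X ⧸ M => (t : X)⁻¹ • q) e
          simp only [inv_smul_smul] at e'
          rw [e', MulAction.Quotient.smul_coe, QuotientGroup.eq]
          simpa using hTM t.2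
        · exact fun s _ t _ e => hinj e
        · intro r hr
          obtain ⟨t, ht⟩ := Quotient.eq''.1 (Finset.mem_filter.1 hr).2
          exact ⟨t, Finset.mem_univ _, ht⟩
        · intro t _
          rw [hequiv, hf]
  have hSy : S = y := by
    rw [hS, ← Finset.add_sum_erase _ _ (Finset.mem_univ ((1 : X) : X ⧸ M)), hrest, add_zero, hf,
      one_smul]
  rw [← hSy, hSfix]

end Cfsg.Agent.SpeTrace
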