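import Cfsg.Agent.Lib.SpeTrace.Basic

/-!
# Orbit sums and filtrations

Over the prime field the orbit sum of a `p`-group shifts a filtration by `p - 1` times the sum
of the shifts along a composition series.
-/

set_option autoImplicit false

namespace Cfsg.Agent.SpeTrace

variable {X : Type*} [Group X] [Finite X] {Y : Type*} [AddCommGroup Y] [DistribMulAction X Y]

/-- The orbit sum of a subgroup. -/
noncomputable def orbitSum (T : Subgroup X) (y : Y) : Y :=
  haveI := Fintype.ofFinite T
  ∑ t : T, (t : X) • y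

theorem orbitSum_eq (T : Subgroup X) [Fintype T] (y : Y) :
    orbitSum T y = ∑ t : T, (t : X) • y := by
  rw [orbitSum]
  exact Finset.sum_congr (Finset.ext fun _ => by simp) fun _ _ => rfl

/-- `T` shifts the filtration `F` by `c`. -/
def Shifts (T : Subgroup X) (F : ℕ → AddSubgroup Y) (c : ℕ) : Prop :=
  ∀ i y, y ∈ F i → orbitSum T y ∈ F (i + c)

/-- The trivial subgroup does not shift. -/
theorem shifts_bot (F : ℕ → AddSubgroup Y) : Shifts (⊥ : Subgroup X) F 0 := fun i y hy => by
  rw [orbitSum_eq, Fintype.sum_unique]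
  rw [Subsingleton.elim (default : (⊥ : Subgroup X)) 1]
  simpa using hy

/-- The action of an element as an additive endomorphism. -/
def smulEnd (t : X) : AddMonoid.End Y := DistribSMul.toAddMonoidHom Y t

theorem smulEnd_pow (t : X) : ∀ (k : ℕ) (y : Y), (smulEnd t ^ k : AddMonoid.End Y) y = t ^ k • y
  | 0, y => by simp
  | k + 1, y => by
    rw [pow_succ', pow_succ']
    show smulEnd t ((smulEnd t ^ k : AddMonoid.End Y) y) = _
    rw [smulEnd_pow t k y, mul_smul]
    rfl

/-- In characteristic `p` the sum of the first `p` powers is a power of `a - 1`. -/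
theorem geom_sum_eq_sub_one_pow {R : Type*} [Ring R] {p : ℕ} [Fact p.Prime] (hp : (p : R) = 0)
    (a : R) : ∑ k ∈ Finset.range p, a ^ k = (a - 1) ^ (p - 1) := by
  rcases subsingleton_or_nontrivial R with hR | hR
  · exact Subsingleton.elim _ _
  haveI : CharP R p := (CharP.charP_iff_prime_eq_zero Fact.out).2 hp
  have key : (∑ k ∈ Finset.range p, (Polynomial.X : Polynomial (ZMod p)) ^ k) =
      (Polynomial.X - 1) ^ (p - 1) := by
    have h1 := geom_sum_mul (Polynomial.X : Polynomial (ZMod p)) p
    have h2 : ((Polynomial.X : Polynomial (ZMod p)) - 1) ^ p = Polynomial.X ^ p - 1 := by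
      rw [sub_pow_char, one_pow]
    have hne : (Polynomial.X : Polynomial (ZMod p)) - 1 ≠ 0 := by
      simpa using Polynomial.X_sub_C_ne_zero (1 : ZMod p)
    refine mul_right_cancel₀ hne ?_
    rw [h1, ← h2, ← pow_succ, Nat.sub_add_cancel (Fact.out : p.Prime).one_le]
  letI := ZMod.algebra R p
  have := congrArg (Polynomial.aeval (R := ZMod p) a) key
  simpa using this

/-- One step: `T` is the union of the cosets `t ^ k T'`, `k < p`. -/
theorem shifts_step {p : ℕ} [Fact p.Prime] (hY : ∀ y : Y, p • y = 0) {T' T : Subgroup X}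
    {F : ℕ → AddSubgroup Y} {c s : ℕ} {t : X} (hle : T' ≤ T) (ht : t ∈ T)
    (hidx : T'.relIndex T = p) (hinj : ∀ k, 0 < k → k < p → t ^ k ∉ T')
    (hT' : Shifts T' F c) (hts : ∀ i y, y ∈ F i → t • y - y ∈ F (i + s)) :
    Shifts T F (c + (p - 1) * s) := by
  classical
  haveI := Fintype.ofFinite T
  haveI := Fintype.ofFinite T'
  intro i y hy
  have hinj2 : ∀ j k : ℕ, j ≤ k → k < p → ∀ u v : T', t ^ j * (u : X) = t ^ k * v → j = k ∧ u = v := by
    intro j k hjk hk u v huv
    obtain ⟨d, rfl⟩ := Nat.exists_eq_add_of_le hjk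
    rcases Nat.eq_zero_or_pos d with rfl | hd
    · exact ⟨rfl, Subtype.ext (mul_left_cancel huv)⟩
    · rw [pow_add, mul_assoc] at huv
      exact absurd (eq_mul_inv_of_mul_eq (mul_left_cancel huv).symm ▸ T'.mul_mem u.2 (T'.inv_mem v.2))
        (hinj d hd (by omega))
  let e : Fin p × T' → T := fun w => ⟨t ^ (w.1 : ℕ) * (w.2 : X), T.mul_mem (T.pow_mem ht _) (hle w.2.2)⟩
  have hei : Function.Injective e := by
    rintro ⟨j, u⟩ ⟨k, v⟩ h
    have h' : t ^ (j : ℕ) * (u : X) = t ^ (k : ℕ) * v := congrArg Subtype.val h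
    rcases le_total (j : ℕ) k with hl | hl
    · obtain ⟨h1, h2⟩ := hinj2 _ _ hl k.2 u v h'
      exact Prod.ext (Fin.ext h1) h2
    · obtain ⟨h1, h2⟩ := hinj2 _ _ hl j.2 v u h'.symm
      exact Prod.ext (Fin.ext h1.symm) h2.symm
  have heb : Function.Bijective e := (Fintype.bijective_iff_injective_and_card e).2 ⟨hei, by
    rw [Fintype.card_prod, Fintype.card_fin, ← Nat.card_eq_fintype_card, ← Nat.card_eq_fintype_card,
      ← hidx, Subgroup.relIndex, mul_comm, ← Nat.card_congr (Subgroup.subgroupOfEquivOfLe hle).toEquiv,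
      Subgroup.card_mul_index]⟩
  have hp0 : (p : AddMonoid.End Y) = 0 := by
    refine AddMonoidHom.ext fun z => ?_
    show (p : AddMonoid.End Y) z = 0
    exact (AddMonoid.End.natCast_apply p z).trans (hY z)
  have hsum : orbitSum T y = ((smulEnd t - 1) ^ (p - 1) : AddMonoid.End Y) (orbitSum T' y) := by
    rw [← geom_sum_eq_sub_one_pow hp0, orbitSum_eq, orbitSum_eq,
      ← Fintype.sum_bijective e heb (fun w => ((e w : T) : X) • y) (fun u : T => (u : X) • y) (fun _ => rfl),
      Fintype.sum_prod_type, ← Fin.sum_univ_eq_sum_range]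
    have happ : ∀ (A : Finset (Fin p)) (f : Fin p → AddMonoid.End Y) (z : Y),
        (∑ k ∈ A, f k : AddMonoid.End Y) z = ∑ k ∈ A, f k z := fun A f z => by
      induction A using Finset.induction_on with
      | empty => simp
      | insert a A ha ih => rw [Finset.sum_insert ha, Finset.sum_insert ha, ← ih]; rfl
    rw [happ]
    refine Finset.sum_congr rfl fun k _ => ?_
    rw [smulEnd_pow, Finset.smul_sum]
    exact Finset.sum_congr rfl fun u _ => mul_smul _ _ _
  rw [hsum]
  have key : ∀ k (z : Y) (m : ℕ), z ∈ F m → ((smulEnd t - 1) ^ k : AddMonoid.End Y) z ∈ F (m + k * s) := by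
    intro k
    induction k with
    | zero => intro z m hz; simpa using hz
    | succ k ih =>
      intro z m hz
      rw [pow_succ', Nat.succ_mul, ← Nat.add_assoc]
      exact hts _ _ (ih z m hz)
  rw [← Nat.add_assoc]
  exact key _ _ _ (hT' i y hy)

/-- A shift past the end of the filtration kills the orbit sums. -/
theorem orbitSum_eq_zero {T : Subgroup X} {F : ℕ → AddSubgroup Y} {c : ℕ} (hc : Shifts T F c)
    (h0 : F 0 = ⊤) (hN : F c = ⊥) (y : Y) : orbitSum T y = 0 := by
  have := hc 0 y (by rw [h0]; exact AddSubgroup.mem_top y)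
  rwa [Nat.zero_add, hN, AddSubgroup.mem_bot] at this

end Cfsg.Agent.SpeTrace
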